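import Cfsg.Agent.Lib.SL2.Classes
import Mathlib

/-!
Central products of two copies of `SL(2)` in odd characteristic.
-/

namespace Cfsg.Agent.Lib.SL2Central

open Cfsg.Agent.Lib.SL2

variable {F : Type*} [Field F]

/-- Cross relations of two commuting elements. -/
theorem cross_of_commute {g h : SLtwo F} (hc : g * h = h * g) :
    g 0 1 * h 1 0 = g 1 0 * h 0 1 ∧ (g 0 0 - g 1 1) * h 1 0 = g 1 0 * (h 0 0 - h 1 1) ∧
      (g 0 0 - g 1 1) * h 0 1 = g 0 1 * (h 0 0 - h 1 1) := by
  have h00 := congrArg (fun m : SLtwo F => m 0 0) hc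
  have h01 := congrArg (fun m : SLtwo F => m 0 1) hc
  have h10 := congrArg (fun m : SLtwo F => m 1 0) hc
  simp only [mul_00, mul_01, mul_10] at h00 h01 h10
  exact ⟨by linear_combination h00, by linear_combination -h10, by linear_combination h01⟩

theorem commute_of_cross {g h : SLtwo F}
    (hc : g 0 1 * h 1 0 = g 1 0 * h 0 1 ∧ (g 0 0 - g 1 1) * h 1 0 = g 1 0 * (h 0 0 - h 1 1) ∧
      (g 0 0 - g 1 1) * h 0 1 = g 0 1 * (h 0 0 - h 1 1)) : g * h = h * g := by
  obtain ⟨e1, e2, e3⟩ := hc
  refine ext_entries ?_ ?_ ?_ ?_ <;> simp only [mul_00, mul_01, mul_10, mul_11]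
  · linear_combination e1
  · linear_combination e3
  · linear_combination -e2
  · linear_combination -e1

/-- Centralisers of noncentral elements are commutative. -/
theorem commute_of_commute_noncentral {k g h : SLtwo F} (hk : k ∉ Subgroup.center (SLtwo F))
    (hg : k * g = g * k) (hh : k * h = h * k) : g * h = h * g := by
  obtain ⟨a1, a2, a3⟩ := cross_of_commute hg
  obtain ⟨b1, b2, b3⟩ := cross_of_commute hh
  rw [mem_center_iff_entries] at hk
  apply commute_of_cross
  by_cases hb : k 0 1 = 0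
  · by_cases hc : k 1 0 = 0
    · have hd : k 0 0 - k 1 1 ≠ 0 := fun h' => hk ⟨hb, hc, sub_eq_zero.1 h'⟩
      rw [hb, zero_mul] at a3 b3
      rw [hc, zero_mul] at a2 b2
      simp [(mul_eq_zero.1 a2).resolve_left hd, (mul_eq_zero.1 b2).resolve_left hd,
        (mul_eq_zero.1 a3).resolve_left hd, (mul_eq_zero.1 b3).resolve_left hd]
    · rw [hb, zero_mul, eq_comm, mul_eq_zero] at a1 b1
      have ga : g 0 1 = 0 := a1.resolve_left hc
      have ha : h 0 1 = 0 := b1.resolve_left hc
      refine ⟨by rw [ga, ha]; ring, ?_, by rw [ga, ha]; ring⟩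
      apply mul_left_cancel₀ hc
      linear_combination -(h 1 0) * a2 + g 1 0 * b2
  · have e1 : g 0 1 * h 1 0 = g 1 0 * h 0 1 := by
      apply mul_left_cancel₀ hb
      linear_combination g 0 1 * b1 - h 0 1 * a1
    refine ⟨e1, ?_, ?_⟩ <;> apply mul_left_cancel₀ hb
    · linear_combination -(h 1 0) * a3 + g 1 0 * b3 + (k 0 0 - k 1 1) * e1
    · linear_combination -(h 0 1) * a3 + g 0 1 * b3

/-- An element commuting with all its conjugates is central (odd characteristic). -/
theorem mem_center_of_commute_conj (h2 : (2 : F) ≠ 0) {g : SLtwo F}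
    (hg : ∀ s : SLtwo F, g * (s * g * s⁻¹) = (s * g * s⁻¹) * g) :
    g ∈ Subgroup.center (SLtwo F) := by
  rw [mem_center_iff_entries]
  obtain ⟨p1, p2, p3⟩ := cross_of_commute (hg (upper 1))
  obtain ⟨q1, q2, q3⟩ := cross_of_commute (hg (lower 1))
  simp only [mul_00, mul_01, mul_10, mul_11, inv_00, inv_01, inv_10, inv_11] at p1 p2 p3 q1 q2 q3
  simp at p1 p2 p3 q1 q2 q3
  have hc2 : 2 * g 1 0 * g 1 0 = 0 := by linear_combination -p2
  have hb2 : 2 * g 0 1 * g 0 1 = 0 := by linear_combination q3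
  have hc : g 1 0 = 0 := by simpa [h2] using hc2
  have hb : g 0 1 = 0 := by simpa [h2] using hb2
  refine ⟨hb, hc, ?_⟩
  have hd : (g 0 0 - g 1 1) * (g 0 0 - g 1 1) = 0 := by
    rw [hc, hb] at p3
    linear_combination -p3
  exact sub_eq_zero.1 (mul_self_eq_zero.1 hd)

/-- The centraliser of a noncentral normal subgroup is central. -/
theorem mem_center_of_centralizes_normal (h2 : (2 : F) ≠ 0) {N : Subgroup (SLtwo F)} [N.Normal]
    {n : SLtwo F} (hn : n ∈ N) (hnc : n ∉ Subgroup.center (SLtwo F)) {k : SLtwo F}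
    (hk : ∀ m ∈ N, k * m = m * k) : k ∈ Subgroup.center (SLtwo F) := by
  by_contra hkc
  exact hnc (mem_center_of_commute_conj h2 fun s =>
    commute_of_commute_noncentral hkc (hk n hn) (hk _ (Subgroup.Normal.conj_mem inferInstance n hn s)))

/-- An element all of whose commutators are central is central. -/
theorem mem_center_of_commutator_central (h2 : (2 : F) ≠ 0) {a : SLtwo F}
    (ha : ∀ g : SLtwo F, a * g * a⁻¹ * g⁻¹ ∈ Subgroup.center (SLtwo F)) :
    a ∈ Subgroup.center (SLtwo F) := by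
  refine mem_center_of_commute_conj h2 fun s => ?_
  have h1 := Subgroup.inv_mem _ (ha s)
  have h3 : s * a * s⁻¹ = (a * s * a⁻¹ * s⁻¹)⁻¹ * a := by group
  rw [h3, ← mul_assoc, ← Subgroup.mem_center_iff.1 h1 a]

theorem tr_eq_zero_of_sq {g : SLtwo F} (hg : g * g = -1) : tr g = 0 := by
  have h : tr g • (g : Matrix (Fin 2) (Fin 2) F) = 0 := by
    have hch := cayley_hamilton g
    have h' := congrArg Subtype.val hg
    simp only [Matrix.SpecialLinearGroup.coe_mul, Matrix.SpecialLinearGroup.coe_neg,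
      Matrix.SpecialLinearGroup.coe_one] at h'
    rw [h'] at hch
    exact (sub_left_injective (b := (1 : Matrix (Fin 2) (Fin 2) F)) (show tr g • (g : Matrix (Fin 2) (Fin 2) F) - 1 = 0 - 1 by
      rw [← hch, zero_sub]))
  rcases smul_eq_zero.1 h with h | h
  · exact h
  · exfalso
    have := det_entries g
    simp [h] at this

theorem isConj_weyl_of_sq [Fintype F] (h2 : (2 : F) ≠ 0) {g : SLtwo F} (hg : g * g = -1) :
    IsConj g weyl := by
  refine isConj_of_tr_eq (elliptic_or_split_of_tr ?_) ?_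
  · rw [tr_eq_zero_of_sq hg]
    exact ⟨h2.symm, fun h => h2 (by linear_combination (-1 : F) * h.symm)⟩
  · rw [tr_eq_zero_of_sq hg, tr_eq_zero_of_sq weyl_mul_weyl]

end Cfsg.Agent.Lib.SL2Central
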